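import Mathlib
import Cfsg.Agent.Base
import Cfsg.Agent.Lib.GW.Defs
import Cfsg.Agent.Lib.BG.S1c
import Cfsg.Agent.Lib.BG.Api.TI
import Cfsg.Agent.Lib.GW.DGrp4

/-!
# Gorenstein-Walter, package D: proper subgroups (all parts)
-/
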